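import Groth.Agent.IntAffine9.Sep
import Groth.Agent.EtFound.Descent
import Mathlib.AlgebraicGeometry.Limits

/-! A universally closed separated morphism dominated by an integral morphism with finite fibres is affine. -/

set_option autoImplicit false
set_option linter.style.haveILetI false
set_option backward.isDefEq.respectTransparency false
set_option backward.isDefEq.respectTransparency.types false

universe u

open CategoryTheory CategoryTheory.Limits AlgebraicGeometry TopologicalSpace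

namespace Groth.Agent.IntAffine9

variable {X Z S : Scheme.{u}}

theorem isAffineOpen_of_isClopen {V U : Z.Opens} (hV : IsAffineOpen V) (hUV : U ≤ V)
    (hcl : ∀ z ∈ closure (U : Set Z), z ∈ V → z ∈ U) : IsAffineOpen U := by
  haveI : IsAffine V.toScheme := hV
  haveI : IsClosedImmersion (Z.homOfLE hUV) := IsClosedImmersion.of_isPreimmersion _ (by
    rw [show Set.range (Z.homOfLE hUV) = V.ι ⁻¹' (U : Set Z) from
      congrArg (fun O : V.toScheme.Opens => (O : Set V.toScheme)) (Z.opensRange_homOfLE hUV)]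
    refine isClosed_of_closure_subset fun v hv => hcl _ ?_ v.2
    exact V.ι.continuous.closure_preimage_subset _ hv)
  exact isAffine_of_isAffineHom (Z.homOfLE hUV)

/-- The topological core: clopen separation upstairs gives an affine preimage near the point. -/
theorem exists_affine_preimage (π : X ⟶ Z) (q : Z ⟶ S) [Surjective π] [IsAffine S]
    (hπ : IsClosedMap π) (hq : IsClosedMap q) (hp : IsClosedMap (π ≫ q)) (s : S)
    (hfin : ((π ≫ q) ⁻¹' {s}).Finite)
    (hsep : ∀ x, (π ≫ q) x = s → ∃ C : Set X, IsClopen C ∧ x ∈ C ∧ ∀ y ∈ C, (π ≫ q) y = s → y = x) :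
    ∃ h : Γ(S, ⊤), s ∈ S.basicOpen h ∧ IsAffineOpen (q ⁻¹ᵁ S.basicOpen h) := by
  classical
  haveI := hfin.to_subtype
  choose C hC hxC hC' using fun x : (π ≫ q) ⁻¹' {s} => hsep x.1 x.2
  let W : {z : Z // q z = s} → Set Z := fun z => π '' ⋃ (x : (π ≫ q) ⁻¹' {s}) (_ : π x.1 = z.1), C x
  haveI : Finite {z : Z // q z = s} := by
    refine Finite.of_surjective (fun x : (π ≫ q) ⁻¹' {s} => ⟨π x.1, x.2⟩) fun z => ?_
    obtain ⟨x, hx⟩ := π.surjective z.1
    exact ⟨⟨x, show q (π x) = s by rw [hx]; exact z.2⟩, Subtype.ext hx⟩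
  have hW : ∀ z, IsClosed (W z) := fun z =>
    hπ _ (isClosed_iUnion_of_finite fun x => isClosed_iUnion_of_finite fun _ => (hC x).1)
  have hW' : ∀ z w, w ∈ W z → q w = s → w = z.1 := by
    rintro z _ ⟨y, hy, rfl⟩ hys
    obtain ⟨x, hx, hyC⟩ := by simpa only [Set.mem_iUnion, exists_prop] using hy
    rw [hC' x y hyC hys, hx]
  choose V hV hzV hle using fun z : {z : Z // q z = s} =>
    exists_isAffineOpen_mem_and_subset (x := z.1) (U := ⊤) trivial
  let bad : Set S := ((π ≫ q) '' (⋃ x, C x)ᶜ) ∪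
    (⋃ z, q '' (W z ∩ (V z : Set Z)ᶜ)) ∪ ⋃ (z) (w) (_ : z ≠ w), q '' (W z ∩ W w)
  have hbad : IsClosed bad :=
    ((hp _ (isOpen_iUnion fun x => (hC x).2).isClosed_compl).union (isClosed_iUnion_of_finite fun z =>
      hq _ ((hW z).inter (V z).2.isClosed_compl))).union (isClosed_iUnion_of_finite fun z =>
        isClosed_iUnion_of_finite fun w => isClosed_iUnion_of_finite fun _ => hq _ ((hW z).inter (hW w)))
  have hs : s ∉ bad := by
    rintro ((⟨y, hy, hys⟩ | h) | h)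
    · exact hy (Set.mem_iUnion.2 ⟨⟨y, hys⟩, hxC _⟩)
    · obtain ⟨z, w, ⟨hw, hwV⟩, hws⟩ := Set.mem_iUnion.1 h
      exact hwV (by rw [hW' z w hw hws]; exact hzV z)
    · simp only [Set.mem_iUnion] at h
      obtain ⟨z, w, hne, v, ⟨hvz, hvw⟩, hvs⟩ := h
      exact hne (Subtype.ext ((hW' z v hvz hvs).symm.trans (hW' w v hvw hvs)))
  obtain ⟨h, hle', hsh⟩ := (isAffineOpen_top S).exists_basicOpen_le (V := ⟨badᶜ, hbad.isOpen_compl⟩)
    ⟨s, hs⟩ trivial
  refine ⟨h, hsh, ?_⟩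
  set D := q ⁻¹ᵁ S.basicOpen h with hD
  have cover : ∀ w ∈ D, ∃ z, w ∈ W z ∧ w ∈ V z := by
    intro w hw
    obtain ⟨y, rfl⟩ := π.surjective w
    have hnb : q (π y) ∉ bad := hle' hw
    obtain ⟨x, hx⟩ : ∃ x, y ∈ C x := by
      by_contra hc
      exact hnb (Or.inl (Or.inl ⟨y, fun hm => hc (Set.mem_iUnion.1 hm), rfl⟩))
    let z : {z : Z // q z = s} := ⟨π x.1, x.2⟩
    have hz : π y ∈ W z := ⟨y, Set.mem_iUnion.2 ⟨x, Set.mem_iUnion.2 ⟨rfl, hx⟩⟩, rfl⟩
    exact ⟨z, hz, by_contra fun hv => hnb (Or.inl (Or.inr (Set.mem_iUnion.2 ⟨z, π y, ⟨hz, hv⟩, rfl⟩)))⟩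
  have disj : ∀ z w v, v ∈ D → v ∈ W z → v ∈ W w → z = w := fun z w v hv h1 h2 => by_contra fun hne =>
    hle' (show q v ∈ S.basicOpen h from hv) (Or.inr (by
      simp only [Set.mem_iUnion]; exact ⟨z, w, hne, v, ⟨h1, h2⟩, rfl⟩))
  let O : {z : Z // q z = s} → Z.Opens := fun z =>
    ⟨(D : Set Z) ∩ (⋃ (w) (_ : w ≠ z), W w)ᶜ, D.2.inter
      (isClosed_iUnion_of_finite fun w => isClosed_iUnion_of_finite fun _ => hW w).isOpen_compl⟩
  have hO : ∀ z v, v ∈ O z ↔ v ∈ D ∧ v ∈ W z := by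
    intro z v
    constructor
    · rintro ⟨hv, hv'⟩
      obtain ⟨w, hw, -⟩ := cover v hv
      refine ⟨hv, ?_⟩
      by_cases e : w = z
      · rwa [← e]
      · exact absurd (Set.mem_iUnion.2 ⟨w, Set.mem_iUnion.2 ⟨e, hw⟩⟩) hv'
    · rintro ⟨hv, hv'⟩
      refine ⟨hv, fun h => ?_⟩
      simp only [Set.mem_iUnion] at h
      obtain ⟨w, hne, hw⟩ := h
      exact hne (disj w z v hv hw hv')
  have hDV : ∀ z, IsAffineOpen (O z) := fun z => by
    refine isAffineOpen_of_isClopen ((hV z).basicOpen (Z.presheaf.map (homOfLE le_top).op (q.app ⊤ h)))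
      ?_ fun v hv hvb => ?_
    · intro v hv
      obtain ⟨hvD, hvW⟩ := (hO z v).1 hv
      obtain ⟨w, hw, hwV⟩ := cover v hvD
      rw [Scheme.basicOpen_res, ← Scheme.preimage_basicOpen]
      obtain rfl := disj w z v hvD hw hvW
      exact ⟨hwV, hvD⟩
    · rw [Scheme.basicOpen_res, ← Scheme.preimage_basicOpen] at hvb
      refine (hO z v).2 ⟨hvb.2, ?_⟩
      exact closure_minimal (fun a ha => ((hO z a).1 ha).2) (hW z) hv
  have hsup : D = ⨆ z, O z := by
    apply le_antisymm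
    · intro v hv
      obtain ⟨z, hz, -⟩ := cover v hv
      exact Opens.mem_iSup.2 ⟨z, (hO z v).2 ⟨hv, hz⟩⟩
    · exact iSup_le fun z v hv => ((hO z v).1 hv).1
  show IsAffineOpen D
  rw [hsup]
  refine IsAffineOpen.iSup_of_disjoint hDV fun z w hne => ?_
  rw [Function.onFun, disjoint_iff_inf_le]
  rintro v ⟨hv, hv'⟩
  exact hne (disj z w v ((hO z v).1 hv).1 ((hO z v).1 hv).2 ((hO w v).1 hv').2)

theorem isAffineHom_aux (π : X ⟶ Z) (q : Z ⟶ S) [IsAffine S] [IsSeparated q] [Surjective π]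
    [IsIntegralHom (π ≫ q)] (hfin : ∀ s : S, ((π ≫ q) ⁻¹' {s}).Finite) (s : S) :
    ∃ U : S.Opens, IsAffineOpen U ∧ s ∈ U ∧ IsAffineOpen (q ⁻¹ᵁ U) := by
  obtain ⟨S', X', φ, fst, snd, s', hφ, hS', hs, sq, hfin', hsep⟩ := exists_etale_separated (π ≫ q) s (hfin s)
  haveI : UniversallyClosed q := UniversallyClosed.of_comp_surjective π q
  let q' : pullback q φ ⟶ S' := pullback.snd q φ
  let π' : X' ⟶ pullback q φ := pullback.lift (fst ≫ π) snd (by rw [Category.assoc]; exact sq.w)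
  have hsq : IsPullback fst π' π (pullback.fst q φ) := by
    refine (IsPullback.of_bot ?_ (pullback.lift_fst _ _ _).symm (IsPullback.of_hasPullback q φ))
    rw [pullback.lift_snd]
    exact sq
  haveI : Surjective π' := MorphismProperty.of_isPullback hsq inferInstance
  haveI : UniversallyClosed (π' ≫ q') := by
    rw [pullback.lift_snd]; exact MorphismProperty.of_isPullback sq inferInstance
  haveI : IsSeparated q' := MorphismProperty.pullback_snd _ _ inferInstance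
  haveI : UniversallyClosed π' := .of_comp_of_isSeparated π' q'
  haveI : UniversallyClosed q' := MorphismProperty.pullback_snd _ _ inferInstance
  have e : π' ≫ q' = snd := pullback.lift_snd _ _ _
  obtain ⟨h, hsh, haff⟩ := exists_affine_preimage π' q' π'.isClosedMap q'.isClosedMap (π' ≫ q').isClosedMap s'
    (by rw [e]; exact hfin') (fun x hx => by
      rw [e] at hx
      obtain ⟨C, h1, h2, h3⟩ := hsep x hx
      exact ⟨C, h1, h2, fun y hy hy' => h3 y hy (by rw [e] at hy'; exact hy')⟩)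
  obtain ⟨a, ha, hsa⟩ := (isAffineOpen_top S).exists_basicOpen_le
    (V := ⟨φ '' (S'.basicOpen h : Set S'), φ.isOpenMap _ (S'.basicOpen h).2⟩) ⟨s, s', hsh, hs⟩ trivial
  refine ⟨S.basicOpen a, (isAffineOpen_top S).basicOpen a, hsa, ?_⟩
  set U := S.basicOpen a with hU
  let T : S'.Opens := S'.basicOpen h ⊓ φ ⁻¹ᵁ U
  have hTa : IsAffineOpen T := by
    show IsAffineOpen (S'.basicOpen h ⊓ φ ⁻¹ᵁ U)
    rw [hU, Scheme.preimage_basicOpen_top φ, ← Scheme.basicOpen_mul]
    exact (isAffineOpen_top S').basicOpen _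
  have hqT : IsAffineOpen (q' ⁻¹ᵁ T) := by
    have hb := haff.basicOpen ((pullback q φ).presheaf.map (homOfLE le_top).op ((q' ≫ φ).appTop a))
    rw [Scheme.basicOpen_res] at hb
    show IsAffineOpen (q' ⁻¹ᵁ (S'.basicOpen h ⊓ φ ⁻¹ᵁ U))
    rw [Scheme.Hom.preimage_inf, ← Scheme.Hom.comp_preimage, hU, Scheme.preimage_basicOpen_top (q' ≫ φ)]
    exact hb
  haveI : IsAffine T.toScheme := hTa
  haveI : IsAffine (q' ⁻¹ᵁ T).toScheme := hqT
  haveI : IsAffine U.toScheme := (isAffineOpen_top S).basicOpen a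
  let ψ : T.toScheme ⟶ U.toScheme := φ.resLE U T inf_le_right
  have big := (isPullback_morphismRestrict q' T).flip.paste_horiz (IsPullback.of_hasPullback q φ)
  let r := (isPullback_morphismRestrict q U).flip
  let g1 := r.lift ((q' ⁻¹ᵁ T).ι ≫ pullback.fst q φ) ((q' ∣_ T) ≫ ψ) (by
    rw [Category.assoc ((q' ∣_ T)), Scheme.Hom.resLE_comp_ι]
    exact big.w)
  have sq' : IsPullback g1 (q' ∣_ T) (q ∣_ U) ψ := by
    refine IsPullback.of_right ?_ (r.lift_snd _ _ _) r
    rw [Scheme.Hom.resLE_comp_ι, r.lift_fst]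
    exact big
  have hψ : (@Surjective ⊓ @Flat ⊓ @QuasiCompact : MorphismProperty Scheme.{u}) ψ := by
    refine ⟨⟨⟨fun u => ?_⟩, ?_⟩, inferInstance⟩
    · obtain ⟨t, ht, htu⟩ := ha u.2
      refine ⟨⟨t, ht, show φ t ∈ U by rw [htu]; exact u.2⟩, Subtype.ext ?_⟩
      rw [← Scheme.Opens.ι_apply, ← Scheme.Hom.comp_apply, Scheme.Hom.resLE_comp_ι]
      exact htu
    · exact MorphismProperty.of_postcomp (W := @Flat) (W' := @IsOpenImmersion) ψ U.ι inferInstance (by
        show Flat (ψ ≫ U.ι)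
        rw [Scheme.Hom.resLE_comp_ι]; infer_instance)
  haveI := EtFound.fpqc_isAffineHom.{u}
  haveI : IsAffineHom (q ∣_ U) :=
    MorphismProperty.of_isPullback_of_descendsAlong sq'.flip hψ inferInstance
  exact isAffine_of_isAffineHom (q ∣_ U)

theorem isAffineHom_of_surjective (π : X ⟶ Z) (q : Z ⟶ S) [IsSeparated q] [Surjective π]
    [IsIntegralHom (π ≫ q)] (hfin : ∀ s : S, ((π ≫ q) ⁻¹' {s}).Finite) : IsAffineHom q := by
  refine isAffineHom_of_forall_exists_isAffineOpen q fun s => ?_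
  obtain ⟨U, hU, hsU, -⟩ := exists_isAffineOpen_mem_and_subset (x := s) (U := ⊤) trivial
  haveI : IsAffine U.toScheme := hU
  haveI : IsIntegralHom ((π ∣_ q ⁻¹ᵁ U) ≫ q ∣_ U) := by
    rw [← morphismRestrict_comp]
    exact MorphismProperty.of_isPullback (isPullback_morphismRestrict (π ≫ q) U).flip inferInstance
  have hf : ∀ u : U.toScheme, (((π ∣_ q ⁻¹ᵁ U) ≫ q ∣_ U) ⁻¹' {u}).Finite := fun u => by
    rw [← morphismRestrict_comp]
    refine ((hfin u.1).preimage ((π ≫ q) ⁻¹ᵁ U).ι.isOpenEmbedding.injective.injOn).subset ?_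
    intro x hx
    exact (morphismRestrict_base_coe (π ≫ q) U x).symm.trans (congrArg Subtype.val hx)
  haveI : Surjective (π ∣_ q ⁻¹ᵁ U) := IsZariskiLocalAtTarget.restrict (P := @Surjective) ‹_› _
  obtain ⟨W, hW, hsW, hqW⟩ := isAffineHom_aux (π ∣_ q ⁻¹ᵁ U) (q ∣_ U) hf ⟨s, hsU⟩
  refine ⟨U.ι ''ᵁ W, ⟨⟨s, hsU⟩, hsW, rfl⟩, hW.image_of_isOpenImmersion _, ?_⟩
  rw [← image_morphismRestrict_preimage]
  exact hqW.image_of_isOpenImmersion _

end Groth.Agent.IntAffine9
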