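import Mathlib.AlgebraicGeometry.Morphisms.Etale
import Mathlib.AlgebraicGeometry.Morphisms.Integral
import Mathlib.AlgebraicGeometry.Pullbacks
import Mathlib.RingTheory.Etale.QuasiFinite

/-! An integral morphism with a finite fibre: after an étale neighbourhood the points of the fibre are separated by
clopen sets. -/

set_option autoImplicit false
set_option linter.style.haveILetI false
set_option backward.isDefEq.respectTransparency false
set_option backward.isDefEq.respectTransparency.types false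

universe u

open CategoryTheory CategoryTheory.Limits AlgebraicGeometry TopologicalSpace
open scoped TensorProduct

namespace Groth.Agent.IntAffine9

/-- Integral algebra, finitely many primes over `p`: étale localisation separates them by idempotents. -/
theorem exists_etale_separated_ring {A B : Type u} [CommRing A] [CommRing B] [Algebra A B]
    [Algebra.IsIntegral A B] (p : Ideal A) [p.IsPrime] (hfin : (p.primesOver B).Finite) :
    ∃ (A' : Type u) (_ : CommRing A') (_ : Algebra A A') (_ : Algebra.Etale A A') (P : Ideal A')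
      (_ : P.IsPrime) (_ : P.LiesOver p),
      {Q : Ideal (A' ⊗[A] B) | Q.IsPrime ∧ Q.LiesOver P}.Finite ∧
      ∀ (Q : Ideal (A' ⊗[A] B)), Q.IsPrime → Q.LiesOver P → ∃ e : A' ⊗[A] B, IsIdempotentElem e ∧ e ∉ Q ∧
        ∀ Q' : Ideal (A' ⊗[A] B), Q'.IsPrime → Q'.LiesOver P → e ∉ Q' → Q' = Q := by
  classical
  have hsep : ∀ q₁ q₂ : p.primesOver B, ∃ b : B, q₁ ≠ q₂ → ¬(b ∈ q₁.1 ↔ b ∈ q₂.1) := by
    intro q₁ q₂
    by_contra! h
    exact (h 0).1 (Subtype.ext (Ideal.ext fun b => (h b).2))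
  choose b hb using hsep
  haveI := hfin.to_subtype
  let s : Set B := Set.range fun q : p.primesOver B × p.primesOver B => b q.1 q.2
  let B₀ := Algebra.adjoin A s
  haveI : Module.Finite A B₀ :=
    Algebra.finite_adjoin_of_finite_of_isIntegral (Set.finite_range _) fun x _ => Algebra.IsIntegral.isIntegral x
  obtain ⟨A', _, _, _, P, _, _, n, e, he, P', _, _, hres, he', H⟩ :=
    Algebra.exists_etale_completeOrthogonalIdempotents_forall_liesOver_eq (S := B₀) p
  let φ : A' ⊗[A] B₀ →ₐ[A'] A' ⊗[A] B := Algebra.TensorProduct.map (AlgHom.id A' A') B₀.val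
  -- a prime over `P` is determined by its trace on the finite subalgebra
  have hlie : ∀ (Q : Ideal (A' ⊗[A] B)), Q.IsPrime → Q.LiesOver P →
      Q.comap (Algebra.TensorProduct.includeRight (R := A) (A := A') (B := B)).toRingHom ∈ p.primesOver B := by
    intro Q _ _
    refine ⟨inferInstance, ⟨?_⟩⟩
    haveI : Q.LiesOver p := .trans _ P _
    rw [Ideal.over_def Q p, Ideal.under, Ideal.under, Ideal.comap_comap]
    congr 1
    exact ((Algebra.TensorProduct.includeRight (R := A) (A := A') (B := B)).comp_algebraMap).symm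
  have hinj : ∀ (Q Q' : Ideal (A' ⊗[A] B)), Q.IsPrime → Q.LiesOver P → Q'.IsPrime → Q'.LiesOver P →
      Q.comap φ.toRingHom = Q'.comap φ.toRingHom → Q = Q' := by
    intro Q Q' hQ hQP hQ' hQ'P h
    apply Ideal.eq_of_comap_eq_comap_of_bijective_residueFieldMap hres
    by_contra hne
    let q₁ : p.primesOver B := ⟨_, hlie Q hQ hQP⟩
    let q₂ : p.primesOver B := ⟨_, hlie Q' hQ' hQ'P⟩
    have hne' : q₁ ≠ q₂ := fun h => hne (congrArg Subtype.val h)
    refine hb q₁ q₂ hne' ?_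
    have hbs : b q₁ q₂ ∈ B₀ := Algebra.subset_adjoin ⟨(q₁, q₂), rfl⟩
    have := congrArg (fun I : Ideal (A' ⊗[A] B₀) => (1 : A') ⊗ₜ[A] (⟨_, hbs⟩ : B₀) ∈ I) h
    simpa [q₁, q₂, φ, Algebra.TensorProduct.includeRight_apply] using this
  have hmain : ∀ (Q : Ideal (A' ⊗[A] B)), Q.IsPrime → Q.LiesOver P → ∃ i : Fin n,
      φ (e i.castSucc) ∉ Q ∧ Q.comap φ.toRingHom = P' i := by
    intro Q _ _
    haveI : (Q.comap φ.toRingHom).IsPrime := inferInstance
    haveI : (Q.comap φ.toRingHom).LiesOver P := inferInstanceAs ((Q.comap φ).LiesOver P)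
    obtain ⟨h1, h2⟩ := H (Q.comap φ.toRingHom) inferInstance inferInstance
    obtain ⟨i, hi⟩ : ∃ i : Fin (n + 1), e i ∉ Q.comap φ.toRingHom := by
      by_contra! hall
      exact Ideal.IsPrime.ne_top ‹_› ((Ideal.eq_top_iff_one _).2 (he.complete ▸ Ideal.sum_mem _ fun i _ => hall i))
    cases i using Fin.lastCases with
    | last => exact absurd h1 hi
    | cast i => exact ⟨i, hi, h2 i hi⟩
  refine ⟨A', inferInstance, inferInstance, inferInstance, P, inferInstance, inferInstance, ?_, fun Q hQ hQP => ?_⟩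
  · refine Set.Finite.of_finite_image ((Set.finite_range P').subset ?_) (f := fun Q => Q.comap φ.toRingHom)
      fun Q hQ Q' hQ' h => hinj Q Q' hQ.1 hQ.2 hQ'.1 hQ'.2 h
    rintro _ ⟨Q, ⟨hQ, hQP⟩, rfl⟩
    obtain ⟨i, -, hi⟩ := hmain Q hQ hQP
    exact ⟨i, hi.symm⟩
  · obtain ⟨i, hi, hiQ⟩ := hmain Q hQ hQP
    refine ⟨φ (e i.castSucc), (he.idem _).map φ, hi, fun Q' hQ' hQ'P hi' => hinj Q' Q hQ' hQ'P hQ hQP ?_⟩
    haveI : (Q'.comap φ.toRingHom).LiesOver P := inferInstanceAs ((Q'.comap φ).LiesOver P)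
    rw [hiQ]
    exact (H (Q'.comap φ.toRingHom) inferInstance inferInstance).2 i hi'

/-- The scheme form, for affine bases. -/
theorem exists_etale_separated_Spec {A B : CommRingCat.{u}} (α : A ⟶ B) (hα : α.hom.IsIntegral)
    (s : Spec A) (hfin : ((Spec.map α) ⁻¹' {s}).Finite) :
    ∃ (S' X' : Scheme.{u}) (φ : S' ⟶ Spec A) (fst : X' ⟶ Spec B) (snd : X' ⟶ S') (s' : S'),
      Etale φ ∧ IsAffine S' ∧ φ s' = s ∧ IsPullback fst snd (Spec.map α) φ ∧
      (snd ⁻¹' {s'}).Finite ∧ ∀ x, snd x = s' → ∃ C : Set X', IsClopen C ∧ x ∈ C ∧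
        ∀ y ∈ C, snd y = s' → y = x := by
  letI := α.hom.toAlgebra
  haveI : Algebra.IsIntegral A B := ⟨hα⟩
  have hfin' : (s.asIdeal.primesOver B).Finite := by
    refine (hfin.image PrimeSpectrum.asIdeal).subset fun q hq => ?_
    haveI := hq.1
    exact ⟨⟨q, hq.1⟩, PrimeSpectrum.ext hq.2.over.symm, rfl⟩
  obtain ⟨A', _, _, _, P, hP, hPp, hf, hsep⟩ := exists_etale_separated_ring s.asIdeal hfin'
  let α' : A ⟶ CommRingCat.of A' := CommRingCat.ofHom (algebraMap A A')
  haveI : Etale (Spec.map α') := HasRingHomProperty.Spec_iff.mpr (RingHom.etale_algebraMap.mpr ‹_›)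
  have sq : IsPullback (Spec.map (CommRingCat.ofHom (Algebra.TensorProduct.includeRight (R := A) (A := A') (B := B)).toRingHom))
      (Spec.map (CommRingCat.ofHom (algebraMap A' (A' ⊗[A] B)))) (Spec.map α) (Spec.map α') :=
    (isPullback_SpecMap_of_isPushout _ _ _ _ (CommRingCat.isPushout_tensorProduct A A' B)).flip
  have hmem : ∀ x : Spec (CommRingCat.of (A' ⊗[A] B)),
      Spec.map (CommRingCat.ofHom (algebraMap A' (A' ⊗[A] B))) x = ⟨P, hP⟩ → x.asIdeal.LiesOver P :=
    fun x hx => ⟨(congrArg PrimeSpectrum.asIdeal hx).symm⟩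
  refine ⟨_, _, Spec.map α', _, _, ⟨P, hP⟩, inferInstance, inferInstance,
    PrimeSpectrum.ext hPp.over.symm, sq, ?_, fun x hx => ?_⟩
  · refine Set.Finite.of_finite_image (hf.subset ?_) (f := PrimeSpectrum.asIdeal)
      fun _ _ _ _ h => PrimeSpectrum.ext h
    rintro _ ⟨x, hx, rfl⟩
    exact ⟨x.isPrime, hmem x hx⟩
  · obtain ⟨e, he, hex, hu⟩ := hsep x.asIdeal x.isPrime (hmem x hx)
    refine ⟨(PrimeSpectrum.basicOpen e : Set (PrimeSpectrum (A' ⊗[A] B))), ⟨?_, (PrimeSpectrum.basicOpen e).2⟩, hex,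
      fun y hy hy' => PrimeSpectrum.ext (hu y.asIdeal y.isPrime (hmem y hy') hy)⟩
    rw [PrimeSpectrum.basicOpen_eq_zeroLocus_of_isIdempotentElem e he]
    exact PrimeSpectrum.isClosed_zeroLocus _

theorem exists_etale_separated {X S : Scheme.{u}} (p : X ⟶ S) [IsIntegralHom p] [IsAffine S] (s : S)
    (hfin : (p ⁻¹' {s}).Finite) :
    ∃ (S' X' : Scheme.{u}) (φ : S' ⟶ S) (fst : X' ⟶ X) (snd : X' ⟶ S') (s' : S'),
      Etale φ ∧ IsAffine S' ∧ φ s' = s ∧ IsPullback fst snd p φ ∧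
      (snd ⁻¹' {s'}).Finite ∧ ∀ x, snd x = s' → ∃ C : Set X', IsClopen C ∧ x ∈ C ∧
        ∀ y ∈ C, snd y = s' → y = x := by
  haveI : IsAffine X := isAffine_of_isAffineHom p
  have hnat := Scheme.isoSpec_hom_naturality p
  have hint : p.appTop.hom.IsIntegral := by
    rw [← IsIntegralHom.SpecMap_iff, ← MorphismProperty.cancel_left_of_respectsIso @IsIntegralHom X.isoSpec.hom,
      hnat]
    infer_instance
  have hf : ((Spec.map p.appTop) ⁻¹' {S.isoSpec.hom s}).Finite := by
    refine (hfin.image X.isoSpec.hom).subset fun y hy => ?_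
    refine ⟨X.isoSpec.inv y, S.isoSpec.hom.homeomorph.injective ?_, by simp [← Scheme.Hom.comp_apply]⟩
    show (p ≫ S.isoSpec.hom) (X.isoSpec.inv y) = S.isoSpec.hom s
    rw [← hnat, ← Scheme.Hom.comp_apply, Iso.inv_hom_id_assoc]
    exact hy
  obtain ⟨S', X', φ, fst, snd, s', hφ, hS', hs, sq, h1, h2⟩ := exists_etale_separated_Spec _ hint _ hf
  refine ⟨S', X', φ ≫ S.isoSpec.inv, fst ≫ X.isoSpec.inv, snd, s', inferInstance, hS', ?_,
    (sq.flip.paste_vert (IsPullback.of_vert_isIso ⟨?_⟩)).flip, h1, h2⟩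
  · rw [Scheme.Hom.comp_apply, hs, ← Scheme.Hom.comp_apply, Iso.hom_inv_id]
    rfl
  · rw [Iso.eq_inv_comp, ← Category.assoc, hnat, Category.assoc, Iso.hom_inv_id, Category.comp_id]

end Groth.Agent.IntAffine9
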